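import Cfsg.Agent.H981.Ore.HNPP
import Cfsg.Agent.KFacts.HN.Aut0
import Cfsg.Agent.H285.Ccp.HNThree
import Cfsg.Agent.H285.Ccp.HNFive
import Cfsg.Agent.H497.Stein.Eng
import Cfsg.Agent.H6.ORE.Basic
import Cfsg.Agent.S1701

/-!
# Ore, row HN: elements of prime order, and the frame of the row (helper981)

* `isC_of_conj_W0` : elements with a power conjugate to `W0`: commutators, or small centralizer;
* `isC_two`, `isC_moved`, `isC_prime` : elements of prime order;
* `allC_of` : the row from (T1) elements with `|C(g)| ≤ 5760` are commutators and (C) the centralizer bounds of the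
  remaining elements.
-/

set_option autoImplicit false

namespace Cfsg.Agent.H981.Ore.HNPrime

open Cfsg.Agent.HN Cfsg.Agent.HN.Pres Cfsg.Agent.HN.P1408 Cfsg.Agent.HN.H0Basic Cfsg.Agent.HN.XMat
open Cfsg.Agent.HN.XStruct Cfsg.Agent.HN.XWords Cfsg.Agent.HN.XQuot Cfsg.Agent.HN.XInst
open Cfsg.Agent
open Cfsg.Agent.KFacts.HN
open Cfsg.Agent.H777.Ore (IsC AllC)
open Cfsg.Agent.H981.Ore.HNMM Cfsg.Agent.H981.Ore.HNPP

/-- an involution is a commutator -/
theorem isC_two {g : Cfsg.Spor.HN} (hg : orderOf g = 2) : IsC g := by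
  rcases Classes.inv_class hg with h | h
  · have h1 : IsConj (Q 0) (r Q 1 * sgn0 false) := kind_D (m := 1) (by norm_num) (by decide +kernel) false
    have h2 : r Q 1 * sgn0 false ∈ MM := RS_le_MM (mem_RS.2 ⟨1, by norm_num, false, rfl⟩)
    have h3 : Q 0 = NormalH.ψ τ := inst.t_eq
    rw [h3] at h1
    exact (isC_MM h2).of_isConj (h.trans h1).symm
  · exact isC_W0.of_isConj h.symm

theorem isC_moved {g : Cfsg.Spor.HN} {p : ℕ} (hp : p.Prime) (hg : orderOf g = p) (h : H497.Stein.MovedAt g) : IsC g := by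
  obtain ⟨b, j, h1, h2⟩ := h
  exact H6.ORE.IsComm.of_prime hp hg h1 (by rw [h1]; exact h2)

/-- `g` has a power conjugate to `W0`: a commutator or a small centralizer -/
theorem isC_of_conj_W0 {g : Cfsg.Spor.HN} {n : ℕ} (h : IsConj (g ^ n) W0) :
    IsC g ∨ Nat.card (Subgroup.centralizer ({g} : Set Cfsg.Spor.HN)) ≤ 3840 := by
  obtain ⟨c, hc⟩ := isConj_iff.1 h
  have h1 : (c * g * c⁻¹) ^ n = W0 := by rw [conj_pow, hc]
  by_cases hm : c * g * c⁻¹ ∈ MM
  · exact Or.inl ((isC_MM hm).of_conj c)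
  · right
    rw [← card_cent_conj c g]
    exact card_le_of_pow h1 hm

/-- `p² ∤ |HN|`: moved, by transfer -/
theorem moved_of_card {p : ℕ} (hp : p.Prime) (h : ¬ p ^ 2 ∣ 273030912000000) : H497.Stein.Moved p Cfsg.Spor.HN := by
  have hs : IsSimpleGroup Cfsg.Spor.HN := Cfsg.Agent.S1701.result.1
  refine H497.Stein.moved_of_not_sq (H497.Stein.not_comm_of_card hs ?_) hp ?_
  · rw [Classes.card_HN]; norm_num
  · rw [Classes.card_HN]; exact h

/-- elements of prime order -/
theorem isC_prime {g : Cfsg.Spor.HN} (hp : (orderOf g).Prime) : IsC g := by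
  have hd : orderOf g ∣ 273030912000000 := by
    rw [← Classes.card_HN]
    exact orderOf_dvd_natCard g
  have hd2 : orderOf g ∣ 2 ^ 14 * (3 ^ 6 * (5 ^ 6 * (7 * (11 * 19)))) := by
    refine hd.trans (dvd_of_eq ?_)
    norm_num
  have hc : orderOf g = 2 ∨ orderOf g = 3 ∨ orderOf g = 5 ∨ orderOf g = 7 ∨ orderOf g = 11 ∨ orderOf g = 19 := by
    rcases hp.dvd_mul.1 hd2 with h | h
    · exact Or.inl ((Nat.prime_dvd_prime_iff_eq hp Nat.prime_two).1 (hp.dvd_of_dvd_pow h))
    rcases hp.dvd_mul.1 h with h | h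
    · exact Or.inr (Or.inl ((Nat.prime_dvd_prime_iff_eq hp Nat.prime_three).1 (hp.dvd_of_dvd_pow h)))
    rcases hp.dvd_mul.1 h with h | h
    · exact Or.inr (Or.inr (Or.inl ((Nat.prime_dvd_prime_iff_eq hp Nat.prime_five).1 (hp.dvd_of_dvd_pow h))))
    rcases hp.dvd_mul.1 h with h | h
    · exact Or.inr (Or.inr (Or.inr (Or.inl ((Nat.prime_dvd_prime_iff_eq hp (by norm_num)).1 h))))
    rcases hp.dvd_mul.1 h with h | h
    · exact Or.inr (Or.inr (Or.inr (Or.inr (Or.inl ((Nat.prime_dvd_prime_iff_eq hp (by norm_num)).1 h)))))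
    · exact Or.inr (Or.inr (Or.inr (Or.inr (Or.inr ((Nat.prime_dvd_prime_iff_eq hp (by norm_num)).1 h)))))
  rcases hc with h | h | h | h | h | h
  · exact isC_two h
  · exact isC_moved Nat.prime_three h (H285.HN3.moved_three g h)
  · exact isC_moved Nat.prime_five h (H285.HN5.moved_five g h)
  all_goals
    refine isC_moved (by norm_num) h (moved_of_card (by norm_num) (by norm_num) g h)

/-- **The frame of the row.** -/
theorem allC_of (hT : ∀ g : Cfsg.Spor.HN, Nat.card (Subgroup.centralizer ({g} : Set Cfsg.Spor.HN)) ≤ 5760 → IsC g)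
    (hC : ∀ g : Cfsg.Spor.HN, g ≠ 1 → ¬ (orderOf g).Prime → (∀ n : ℕ, ¬ IsConj (g ^ n) W0) →
      Nat.card (Subgroup.centralizer ({g} : Set Cfsg.Spor.HN)) ≤ 5760 ∨
        (Odd (orderOf g) ∧ ∃ b : Cfsg.Spor.HN, b * g * b⁻¹ = g⁻¹)) : AllC Cfsg.Spor.HN := by
  intro g
  by_cases h1 : g = 1
  · rw [h1]; exact H777.Ore.isC_one
  by_cases hp : (orderOf g).Prime
  · exact isC_prime hp
  by_cases hW : ∃ n : ℕ, IsConj (g ^ n) W0
  · obtain ⟨n, hn⟩ := hW
    rcases isC_of_conj_W0 hn with h | h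
    · exact h
    · exact hT g (h.trans (by norm_num))
  · push Not at hW
    rcases hC g h1 hp hW with h | ⟨ho, b, hb⟩
    · exact hT g h
    · exact H777.Ore.isC_of_real_odd hb ho

end Cfsg.Agent.H981.Ore.HNPrime
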