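import Cfsg.Agent.H65.Ore.Sieve
import Cfsg.Agent.H511.Ore.Deg
import Cfsg.Agent.H845.HNNineteen
import Cfsg.Agent.H981.Ore.HNPrime

/-!
# Ore, row HN: the counting lemma at the prime 19 (helper981)

* `sc19` : the self-centralizing prime 19 of `HN`, fourth moment at most 59;
* `isC_of_deg` : `19'`-degrees at least `d`, `58 (c - 1) < d²`, `|C(g)| ≤ c` : `g` is a commutator;
* `allC_of_deg` : the frame of the row with `19'`-degrees at least 771 (`c = 10249`).
-/

set_option autoImplicit false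

namespace Cfsg.Agent.H981.Ore.HNT1

open Cfsg.Agent Cfsg.Agent.Characters
open Cfsg.Agent.H777.Ore (IsC AllC)
open Cfsg.Agent.H65.Ore (SC)
open Cfsg.Agent.HN.XWords (W0)

theorem not_comm : ¬ IsMulCommutative Cfsg.Spor.HN := by
  intro h
  have hfin : Finite Cfsg.Spor.HN := Nat.finite_of_card_ne_zero (by rw [KFacts.HN.Classes.card_HN]; norm_num)
  refine H497.Stein.not_comm_of_card (G := Cfsg.Spor.HN) Cfsg.Agent.S1701.result.1 ?_ fun a b => h.is_comm.comm a b
  rw [KFacts.HN.Classes.card_HN]; norm_num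

theorem sc19 : SC Cfsg.Spor.HN 19 59 := by
  have hs : IsSimpleGroup Cfsg.Spor.HN := Cfsg.Agent.S1701.result.1
  have hfin : Finite Cfsg.Spor.HN := Nat.finite_of_card_ne_zero (by rw [KFacts.HN.Classes.card_HN]; norm_num)
  obtain ⟨x, hx, hc⟩ := H845.HNNineteen.hn_nineteen
  exact H65.Ore.sc_of not_comm (by norm_num) KFacts.HN.Classes.card_HN hx hc 9 2 59 (by decide +kernel)

/-- **(T1)** -/
theorem isC_of_deg {d c : ℕ} (hd : H511.Ore.DegOff Cfsg.Spor.HN 19 d) (hnum : 58 * (c - 1) < d ^ 2)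
    {g : Cfsg.Spor.HN} (hc : Nat.card (Subgroup.centralizer ({g} : Set Cfsg.Spor.HN)) ≤ c) : IsC g := by
  have hfin : Finite Cfsg.Spor.HN := Nat.finite_of_card_ne_zero (by rw [KFacts.HN.Classes.card_HN]; norm_num)
  obtain ⟨x, hx, -⟩ := H845.HNNineteen.hn_nineteen
  obtain ⟨a, b, h⟩ := sc19.comm hx hd hc hnum
  exact ⟨a, b, h⟩

/-- The frame of the row with `19'`-degrees at least 771. -/
theorem allC_of_deg (hd : H511.Ore.DegOff Cfsg.Spor.HN 19 771)
    (hC : ∀ g : Cfsg.Spor.HN, g ≠ 1 → ¬ (orderOf g).Prime → (∀ n : ℕ, ¬ IsConj (g ^ n) W0) →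
      Nat.card (Subgroup.centralizer ({g} : Set Cfsg.Spor.HN)) ≤ 10249 ∨
        (Odd (orderOf g) ∧ ∃ b : Cfsg.Spor.HN, b * g * b⁻¹ = g⁻¹)) : AllC Cfsg.Spor.HN := by
  intro g
  by_cases h1 : g = 1
  · rw [h1]; exact H777.Ore.isC_one
  by_cases hp : (orderOf g).Prime
  · exact HNPrime.isC_prime hp
  by_cases hW : ∃ n : ℕ, IsConj (g ^ n) W0
  · obtain ⟨n, hn⟩ := hW
    rcases HNPrime.isC_of_conj_W0 hn with h | h
    · exact h
    · exact isC_of_deg (c := 10249) hd (by norm_num) (h.trans (by norm_num))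
  · push Not at hW
    rcases hC g h1 hp hW with h | ⟨ho, b, hb⟩
    · exact isC_of_deg hd (by norm_num) h
    · exact H777.Ore.isC_of_real_odd hb ho

end Cfsg.Agent.H981.Ore.HNT1
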