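import Cfsg.Agent.H175.Ore.HNDeg
import Cfsg.Agent.H692.Ore.HNE
import Cfsg.Agent.H789.Ore.HNComp
import Cfsg.Agent.H187.Ore.HN15
import Cfsg.Agent.H981.Pw.HN
import Cfsg.Agent.H134.Sq.Base

/-!
# The row HN of S2443, S2465 and S2453 (helper981)
-/

set_option autoImplicit false

namespace Cfsg.Agent.H981.Ore.HNRow

open Cfsg Cfsg.Agent
open Cfsg.Agent.H511.Ore

theorem degOff : DegOff Spor.HN 19 771 := by
  have : Finite Spor.HN := Cfsg.Agent.H315.PwHN.fin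
  have h := H175.Ore.HNDeg.degOff_HN (S := Spor.HN) ⟨MulEquiv.refl _⟩
  intro χ h1 h2
  exact le_trans (by norm_num) (h χ h1 h2)

/-- the composite elements -/
theorem cent_le_of (h15 : ∀ g : Spor.HN, 15 ∣ orderOf g → Nat.card (Subgroup.centralizer ({g} : Set Spor.HN)) ≤ 10249)
    (g : Spor.HN) (h1 : g ≠ 1) (hp : ¬ (orderOf g).Prime) (hW : ∀ n : ℕ, ¬ IsConj (g ^ n) HN.XWords.W0) :
    Nat.card (Subgroup.centralizer ({g} : Set Spor.HN)) ≤ 10249 ∨ orderOf g = 9 ∨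
      (orderOf g = 25 ∧ ∃ b : Spor.HN, b * g * b⁻¹ = g⁻¹) :=
  H789.Ore.HNComp.cent_le_of (fun _ h => (H692.Ore.HNE.cent_le (Or.inl h)).trans (by norm_num))
    (fun _ h => (H692.Ore.HNE.cent_le (Or.inr h)).trans (by norm_num)) h15 g h1 hp hW

/-- 3-elements of HN are real. -/
theorem real_three {g : Spor.HN} {k : ℕ} (hg : g ^ 3 ^ k = 1) : IsConj g g⁻¹ := by
  have : Fact (Nat.Prime 3) := ⟨Nat.prime_three⟩
  have : Finite Spor.HN := Cfsg.Agent.H315.PwHN.fin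
  obtain ⟨c, hc⟩ := H749.exists_conj_mem (p := 3) H285.HN3.P H285.HN3.index_P (x := g) ⟨k, hg⟩
  obtain ⟨b, hb⟩ := isConj_iff.1 (H285.HN3.real_P hc)
  rw [isConj_iff]
  refine ⟨c⁻¹ * b * c, ?_⟩
  have h1 : b * (c * g * c⁻¹) * b⁻¹ = (c * g * c⁻¹)⁻¹ := hb
  calc c⁻¹ * b * c * g * (c⁻¹ * b * c)⁻¹ = c⁻¹ * (b * (c * g * c⁻¹) * b⁻¹) * c := by group
    _ = g⁻¹ := by rw [h1]; group

/-- S2443, row HN. -/
theorem ore_of (h15 : ∀ g : Spor.HN, 15 ∣ orderOf g → Nat.card (Subgroup.centralizer ({g} : Set Spor.HN)) ≤ 10249) :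
    H777.Ore.AllC Spor.HN := by
  refine HNT1.allC_of_deg degOff fun g h1 hp hW => ?_
  rcases cent_le_of h15 g h1 hp hW with h | h | ⟨h, hr⟩
  · exact Or.inl h
  · right
    refine ⟨by rw [h]; decide, ?_⟩
    exact isConj_iff.1 (real_three (k := 2) (by rw [show 3 ^ 2 = 9 by norm_num, ← h, pow_orderOf_eq_one]))
  · exact Or.inr ⟨by rw [h]; decide, hr⟩

/-- S2465, row HN. -/
theorem pw_of (h15 : ∀ g : Spor.HN, 15 ∣ orderOf g → Nat.card (Subgroup.centralizer ({g} : Set Spor.HN)) ≤ 10249) :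
    H78.Pw.Pw Spor.HN :=
  H981.Pw.HN.pw_of degOff (cent_le_of h15)

theorem h15 (g : Spor.HN) (h : 15 ∣ orderOf g) : Nat.card (Subgroup.centralizer ({g} : Set Spor.HN)) ≤ 10249 :=
  (H187.Ore.HN15.card_cent_le h).trans (by norm_num)

/-- **S2443, row HN.** -/
theorem ore_HN {S : Type*} [Group S] (h : Spor.IsoHN S) : H777.Ore.AllC S := by
  obtain ⟨e⟩ := h
  exact H777.Ore.AllC.congr e.symm (ore_of h15)

/-- **S2465, row HN.** -/
theorem pw_HN {S : Type*} [Group S] (h : Spor.IsoHN S) : H78.Pw.Pw S := by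
  obtain ⟨e⟩ := h
  exact H78.Pw.Pw.congr e.symm (pw_of h15)

/-- **S2453, row HN (squares).** -/
theorem sq_HN {S : Type*} [Group S] (h : Spor.IsoHN S) : H134.Sq.AllP 2 S := by
  intro g
  exact (pw_HN h).pow (Or.inl Nat.prime_two.isPrimePow) g

end Cfsg.Agent.H981.Ore.HNRow
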