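import Mathlib

/-!
# Ore, row HN: commutators in `A5` with an entry of order three, with an entry of order two (helper981)
-/

set_option autoImplicit false

namespace Cfsg.Agent.H981.Ore.HNA5

open Equiv

/-- products of two transpositions -/
def sw2 (n : ℕ) : Perm (Fin 5) :=
  swap (Fin.ofNat 5 (n / 125)) (Fin.ofNat 5 (n / 25)) * swap (Fin.ofNat 5 (n / 5)) (Fin.ofNat 5 n)

def P3 : List (ℕ × ℕ) := [
  (27, 27), (27, 28), (27, 29), (27, 33), (27, 34), (27, 38), (27, 39), (27, 44), (27, 79), (27, 84),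
  (27, 89), (27, 94), (27, 108), (27, 113), (27, 209), (27, 214), (27, 219), (27, 238), (27, 339), (27, 344),
  (28, 29), (28, 34), (28, 39), (28, 44), (28, 54), (28, 59), (28, 64), (28, 69), (28, 113), (28, 189),
  (28, 238), (28, 339), (28, 344), (29, 38), (29, 53), (29, 63), (29, 69), (29, 89), (29, 339), (29, 344),
  (32, 84), (32, 89), (32, 108), (32, 113), (32, 214), (32, 238), (33, 107), (33, 113), (33, 194), (33, 238),
  (34, 194), (34, 214), (53, 54), (53, 64), (53, 69), (53, 219), (54, 209), (183, 184), (183, 189),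
  (183, 194)]

def P2 : List (ℕ × ℕ) := [
  (38, 27), (38, 28), (38, 29), (38, 34), (38, 38), (38, 39), (38, 44), (38, 54), (38, 59), (38, 64),
  (38, 69), (38, 79), (38, 84), (38, 89), (38, 94), (39, 27), (39, 28), (39, 29), (39, 33), (39, 53),
  (39, 58), (39, 63), (39, 69), (39, 79), (39, 94), (39, 108), (39, 113), (44, 27), (44, 28), (44, 29),
  (44, 32), (44, 53), (44, 54), (44, 63), (44, 64), (44, 82), (44, 89), (44, 107), (44, 113), (58, 27),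
  (58, 54), (58, 59), (58, 64), (58, 69), (59, 27), (59, 53), (59, 63), (69, 53), (69, 54), (82, 79),
  (82, 84), (82, 89), (82, 94), (84, 28), (89, 53), (107, 108), (107, 113), (194, 183), (194, 184),
  (214, 183)]

theorem ck3 : ∀ p ∈ P3, Perm.sign (sw2 p.1) = 1 ∧ Perm.sign (sw2 p.2) = 1 ∧ sw2 p.1 * sw2 p.1 * sw2 p.1 = 1 ∧
    sw2 p.1 ≠ 1 := by decide +kernel

theorem ck2 : ∀ p ∈ P2, Perm.sign (sw2 p.1) = 1 ∧ Perm.sign (sw2 p.2) = 1 ∧ sw2 p.1 * sw2 p.1 = 1 := by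
  decide +kernel

theorem al3 : ∀ y : Perm (Fin 5), Perm.sign y = 1 →
    ∃ p ∈ P3, sw2 p.1 * sw2 p.2 = y * (sw2 p.2 * sw2 p.1) := by decide +kernel

theorem al2 : ∀ y : Perm (Fin 5), Perm.sign y = 1 →
    ∃ p ∈ P2, sw2 p.1 * sw2 p.2 = y * (sw2 p.2 * sw2 p.1) := by decide +kernel

theorem three (y : alternatingGroup (Fin 5)) :
    ∃ a b : alternatingGroup (Fin 5), a ^ 3 = 1 ∧ a ≠ 1 ∧ a * b * a⁻¹ * b⁻¹ = y := by
  obtain ⟨p, hp, h⟩ := al3 y (Perm.mem_alternatingGroup.1 y.2)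
  obtain ⟨h1, h2, h3, h4⟩ := ck3 p hp
  refine ⟨⟨sw2 p.1, Perm.mem_alternatingGroup.2 h1⟩, ⟨sw2 p.2, Perm.mem_alternatingGroup.2 h2⟩, ?_, ?_, ?_⟩
  · apply Subtype.ext
    rw [pow_three']
    exact h3
  · intro h5
    exact h4 (congrArg Subtype.val h5)
  · apply Subtype.ext
    change sw2 p.1 * sw2 p.2 * (sw2 p.1)⁻¹ * (sw2 p.2)⁻¹ = y
    rw [h]
    group

theorem two (y : alternatingGroup (Fin 5)) :
    ∃ a b : alternatingGroup (Fin 5), a * a = 1 ∧ a * b * a⁻¹ * b⁻¹ = y := by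
  obtain ⟨p, hp, h⟩ := al2 y (Perm.mem_alternatingGroup.1 y.2)
  obtain ⟨h1, h2, h3⟩ := ck2 p hp
  refine ⟨⟨sw2 p.1, Perm.mem_alternatingGroup.2 h1⟩, ⟨sw2 p.2, Perm.mem_alternatingGroup.2 h2⟩, ?_, ?_⟩
  · exact Subtype.ext h3
  · apply Subtype.ext
    change sw2 p.1 * sw2 p.2 * (sw2 p.1)⁻¹ * (sw2 p.2)⁻¹ = y
    rw [h]
    group

end Cfsg.Agent.H981.Ore.HNA5
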