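import Cfsg.Agent.CpAutHN.PPFacts
import Cfsg.Agent.H6.ORE.Extra
import Cfsg.Agent.H777.Ore.Base
import Cfsg.Agent.H981.Ore.HNA5

/-!
# Ore, row HN: the derived subgroup of the centralizer of a 2-central involution (helper981)

`PP = C(W0)`, `ρ : PP → Lq = (A5 × A5).2` with kernel `2^(1+8)`, `LL = A5 × A5`.

* `es` : the kernel is extraspecial in the sense of `H6.ORE.ES`;
* `isC_MM` : every element of `MM` (preimage of `LL`) is a commutator.
-/

set_option autoImplicit false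

namespace Cfsg.Agent.H981.Ore.HNMM

open Cfsg.Agent.HN Cfsg.Agent.HN.Pres Cfsg.Agent.HN.P1408 Cfsg.Agent.HN.H0Basic Cfsg.Agent.HN.XMat
open Cfsg.Agent.HN.XStruct Cfsg.Agent.HN.XWords Cfsg.Agent.HN.XQuot Cfsg.Agent.HN.XInst
open Cfsg.Agent
open Cfsg.Agent.KFacts.HN
open Cfsg.Agent.CpAutHN.LqFacts Cfsg.Agent.CpAutHN.PPFacts
open Cfsg.Agent.H6.ORE (ES FPz)
open Cfsg.Agent.H777.Ore (IsC)

instance : Finite Cfsg.Spor.HN := finite_HN

/-- `W0` in `PP` -/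
def zP : PP := ⟨W0, W0_mem_PP⟩

theorem zP_sq : zP * zP = 1 := Subtype.ext W0_sq

theorem zP_comm (x : PP) : x * zP = zP * x := Subtype.ext (mem_PP.1 x.2)

theorem mul_r_sgn (m n : ℕ) (c d : Bool) :
    ∃ b : Bool, r Q m * sgn0 c * (r Q n * sgn0 d) = r Q (m ^^^ n) * sgn0 b := by
  obtain ⟨b, hb⟩ := r_mul (a := m) (b := n)
  have h1 := csg c (r Q n) (comm_r n)
  refine ⟨b ^^ (c ^^ d), ?_⟩
  calc r Q m * sgn0 c * (r Q n * sgn0 d) = r Q m * (sgn0 c * r Q n) * sgn0 d := by group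
    _ = r Q m * r Q n * (sgn0 c * sgn0 d) := by rw [← h1]; group
    _ = r Q (m ^^^ n) * (sgn0 b * sgn0 (c ^^ d)) := by rw [hb, sgn0_mul]; group
    _ = r Q (m ^^^ n) * sgn0 (b ^^ (c ^^ d)) := by rw [sgn0_mul]

theorem or_of_mask {x y : Cfsg.Spor.HN} {m : ℕ} {b c : Bool} (hx : x = r Q m * sgn0 b) (hy : y = r Q m * sgn0 c) :
    x = y ∨ x = y * W0 := by
  have h : ∀ b c : Bool, sgn0 b = sgn0 c ∨ sgn0 b = sgn0 c * W0 := by
    intro b c
    cases b <;> cases c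
    · exact Or.inl rfl
    · right
      change (1 : Cfsg.Spor.HN) = W0 * W0
      exact W0_sq.symm
    · right
      change W0 = 1 * W0
      exact (one_mul _).symm
    · exact Or.inl rfl
  rcases h b c with h | h
  · left; rw [hx, hy, h]
  · right; rw [hx, hy, h, mul_assoc]

theorem mem_ker_val {x : PP} (hx : x ∈ ρ.ker) : ∃ m < 256, ∃ c : Bool, (x : Cfsg.Spor.HN) = r Q m * sgn0 c :=
  mem_ker_iff.1 hx

theorem zP_mem : zP ∈ ρ.ker := mem_ker_iff.2 ⟨0, by norm_num, true, by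
  rw [show r Q 0 = 1 from Bas.r_zero, one_mul]; rfl⟩

theorem es : ES ρ.ker zP where
  normal := inferInstance
  mem := zP_mem
  ne := fun h => W0_ne (congrArg Subtype.val h)
  sq := zP_sq
  central := zP_comm
  comm := by
    intro x hx y hy
    obtain ⟨m, hm, c, h1⟩ := mem_ker_val hx
    obtain ⟨n, hn, d, h2⟩ := mem_ker_val hy
    obtain ⟨b, hb⟩ := mul_r_sgn m n c d
    obtain ⟨b', hb'⟩ := mul_r_sgn n m d c
    rw [Nat.xor_comm] at hb'
    have h3 : ((x * y : PP) : Cfsg.Spor.HN) = r Q (m ^^^ n) * sgn0 b := by rw [Subgroup.coe_mul, h1, h2, hb]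
    have h4 : ((y * x : PP) : Cfsg.Spor.HN) = r Q (m ^^^ n) * sgn0 b' := by rw [Subgroup.coe_mul, h1, h2, hb']
    rcases or_of_mask h3 h4 with h | h
    · exact Or.inl (Subtype.ext h)
    · exact Or.inr (Subtype.ext h)
  pow := by
    intro x hx
    obtain ⟨m, hm, c, h1⟩ := mem_ker_val hx
    obtain ⟨b, hb⟩ := mul_r_sgn m m c c
    rw [Nat.xor_self, show r Q 0 = 1 from Bas.r_zero, one_mul] at hb
    have h3 : ((x * x : PP) : Cfsg.Spor.HN) = sgn0 b := by rw [Subgroup.coe_mul, h1, hb]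
    rcases sgn0_cases b with h | h
    · exact Or.inl (Subtype.ext (h3.trans h))
    · exact Or.inr (Subtype.ext (h3.trans h))
  nd := by
    intro x hx h
    have h1 : ∀ y ∈ RS, (x : Cfsg.Spor.HN) * y = y * x := by
      intro y hy
      obtain ⟨u, hu, rfl⟩ := hy
      exact congrArg Subtype.val (h u hu)
    rcases cent_RS h1 with h2 | h2
    · exact Or.inl (Subtype.ext h2)
    · exact Or.inr (Subtype.ext h2)

instance : Finite ρ.ker := Nat.finite_of_card_ne_zero (by rw [card_ker]; norm_num)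

/-- the mask is fixed by an element commuting modulo `W0` -/
theorem app_eq_of {x v : PP} {w : List ℕ} (hw : ρ x = e w) {m : ℕ} (hm : m < 256) {c : Bool}
    (hv : (v : Cfsg.Spor.HN) = r Q m * sgn0 c) (h : x * v * x⁻¹ = v ∨ x * v * x⁻¹ = v * zP) : app (mw w) m = m := by
  obtain ⟨d, hd⟩ := r_conj x.2 (acts_of_ρ hw) m
  have h2 : (x : Cfsg.Spor.HN)⁻¹ * (r Q m * sgn0 c) * x = r Q (app (mw w) m) * sgn0 (d ^^ c) := by
    have h3 := csg c (x : Cfsg.Spor.HN) (mem_PP.1 x.2)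
    calc (x : Cfsg.Spor.HN)⁻¹ * (r Q m * sgn0 c) * x = (x : Cfsg.Spor.HN)⁻¹ * r Q m * (sgn0 c * x) := by group
      _ = (x : Cfsg.Spor.HN)⁻¹ * r Q m * x * sgn0 c := by rw [← h3]; group
      _ = r Q (app (mw w) m) * sgn0 (d ^^ c) := by rw [hd, mul_assoc, sgn0_mul]
  have h1 : ∃ b : Bool, (x : Cfsg.Spor.HN)⁻¹ * (r Q m * sgn0 c) * x = r Q m * sgn0 b := by
    rcases h with h | h
    · refine ⟨c, ?_⟩
      rw [← hv]
      have h4 : x⁻¹ * v * x = v := by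
        calc x⁻¹ * v * x = x⁻¹ * (x * v * x⁻¹) * x := by rw [h]
          _ = v := by group
      exact congrArg Subtype.val h4
    · refine ⟨c ^^ true, ?_⟩
      have h4 : x⁻¹ * v * x = v * zP := by
        calc x⁻¹ * v * x = x⁻¹ * (v * zP * zP) * x := by rw [mul_assoc v, zP_sq, mul_one]
          _ = x⁻¹ * (x * v * x⁻¹ * zP) * x := by rw [h]
          _ = v * (x⁻¹ * zP * x) := by group
          _ = v * zP := by rw [mul_assoc x⁻¹ zP x, ← zP_comm x, inv_mul_cancel_left]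
      have h5 : (x : Cfsg.Spor.HN)⁻¹ * v * x = v * W0 := congrArg Subtype.val h4
      rw [← hv, h5, hv, mul_assoc, ← sgn0_mul]
      rfl
  obtain ⟨b, hb⟩ := h1
  exact (r_sgn_inj (app_lt _ _) hm (h2.symm.trans hb)).1

/-- commuting modulo `zP` is inherited by powers -/
theorem or_pow {a v : PP} (h : a * v * a⁻¹ = v ∨ a * v * a⁻¹ = v * zP) (n : ℕ) :
    a ^ n * v * (a ^ n)⁻¹ = v ∨ a ^ n * v * (a ^ n)⁻¹ = v * zP := by
  induction n with
  | zero => left; simp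
  | succ n ih =>
    have e1 : a ^ (n + 1) * v * (a ^ (n + 1))⁻¹ = a * (a ^ n * v * (a ^ n)⁻¹) * a⁻¹ := by
      rw [pow_succ']; group
    rw [e1]
    have e2 : a * (v * zP) * a⁻¹ = a * v * a⁻¹ * zP := by
      calc a * (v * zP) * a⁻¹ = a * v * (zP * a⁻¹) := by group
        _ = a * v * (a⁻¹ * zP) := by rw [zP_comm a⁻¹]
        _ = a * v * a⁻¹ * zP := by group
    rcases ih with ih | ih
    · rw [ih]; exact h
    · rw [ih, e2]
      rcases h with h | h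
      · right; rw [h]
      · left; rw [h, mul_assoc, zP_sq, mul_one]

/-- **elements without fixed points on `R/⟨W0⟩`** -/
theorem hfix {a : PP} {x y : A5} (ha : ρ a = φA x * φB y) (hx : x ^ 3 = 1) (hx1 : x ≠ 1) (hy : y * y = 1) :
    ∀ v ∈ ρ.ker, (a * v * a⁻¹ = v ∨ a * v * a⁻¹ = v * zP) → v = 1 ∨ v = zP := by
  intro v hv h
  have h4 := or_pow h 4
  have hρ4 : ρ (a ^ 4) = φA x := by
    have hc : Commute (φA x) (φB y) := comm_AB x y
    rw [map_pow, ha, hc.mul_pow, ← map_pow, ← map_pow]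
    have e1 : x ^ 4 = x := by rw [pow_succ, hx, one_mul]
    have e2 : y ^ 4 = 1 := by
      rw [show (4 : ℕ) = 2 * 2 from rfl, pow_mul, pow_two y, hy, one_pow]
    rw [e1, e2, map_one, mul_one]
  obtain ⟨g, hg⟩ := conj_c0 hx hx1
  obtain ⟨u, hu⟩ := ρ_surj (φA g)
  obtain ⟨b, hb⟩ : ∃ b, b = u * a ^ 4 * u⁻¹ := ⟨_, rfl⟩
  obtain ⟨v', hv'⟩ : ∃ v', v' = u * v * u⁻¹ := ⟨_, rfl⟩
  have hρb : ρ b = e (aw 0) := by
    rw [hb, map_mul, map_mul, map_inv, hu, hρ4, ← map_mul, ← map_inv, ← map_mul, hg, φA_c0]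
  have hvk : v' ∈ ρ.ker := by
    rw [hv']
    exact ρ.normal_ker.conj_mem v hv u
  obtain ⟨m, hm, c, hmc⟩ := mem_ker_val hvk
  have h5 : b * v' * b⁻¹ = v' ∨ b * v' * b⁻¹ = v' * zP := by
    have e1 : b * v' * b⁻¹ = u * (a ^ 4 * v * (a ^ 4)⁻¹) * u⁻¹ := by rw [hb, hv']; group
    have e2 : u * (v * zP) * u⁻¹ = v' * zP := by
      calc u * (v * zP) * u⁻¹ = u * v * (zP * u⁻¹) := by group
        _ = u * v * (u⁻¹ * zP) := by rw [zP_comm u⁻¹]
        _ = v' * zP := by rw [hv']; group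
    rw [e1]
    rcases h4 with h4 | h4
    · left; rw [h4, hv']
    · right; rw [h4, e2]
  have h6 := fix_A hm (app_eq_of hρb hm hmc h5)
  rw [h6, show r Q 0 = 1 from Bas.r_zero, one_mul] at hmc
  have h7 : v' = 1 ∨ v' = zP := by
    rcases sgn0_cases c with h | h
    · exact Or.inl (Subtype.ext (hmc.trans h))
    · exact Or.inr (Subtype.ext (hmc.trans h))
  have e3 : v = u⁻¹ * v' * u := by rw [hv']; group
  rw [e3]
  rcases h7 with h | h
  · left; rw [h]; group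
  · right; rw [h, mul_assoc, ← zP_comm u, ← mul_assoc, inv_mul_cancel, one_mul]

/-- an element acting trivially on `R/⟨W0⟩` is in `R` -/
theorem ρ_eq_one {c : PP} (h : ∀ x ∈ ρ.ker, c * x * c⁻¹ = x ∨ c * x * c⁻¹ = x * zP) : ρ c = 1 := by
  obtain ⟨w, hw⟩ := exists_word (ρ c)
  rw [hw, ← e_nil]
  apply e_eq
  apply pack_ext (mw_lt _) (mw_lt _)
  intro i hi
  have h1 : (⟨r Q (2 ^ i), r_mem_PP _⟩ : PP) ∈ ρ.ker :=
    mem_ker_iff.2 ⟨2 ^ i, by
      calc 2 ^ i < 2 ^ 8 := Nat.pow_lt_pow_right (by norm_num) hi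
        _ = 256 := by norm_num, false, (mul_one _).symm⟩
  have h2 := app_eq_of hw (m := 2 ^ i) (by
      calc 2 ^ i < 2 ^ 8 := Nat.pow_lt_pow_right (by norm_num) hi
        _ = 256 := by norm_num) (c := false) (v := ⟨r Q (2 ^ i), r_mem_PP _⟩) (mul_one _).symm (h _ h1)
  rw [app_pow _ hi] at h2
  rw [h2, mw_nil, row_MI hi]

theorem isC_of_isComm {G : Type*} [Group G] {g : G} (h : H6.ORE.IsComm g) : IsC g := h

/-- `W0` is a commutator -/
theorem isC_W0 : IsC (W0 : Cfsg.Spor.HN) := by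
  -- two elements of `R` which do not commute
  have h : ∃ x ∈ ρ.ker, ∃ y ∈ ρ.ker, x * y = y * x * zP := by
    by_contra hno
    push Not at hno
    have h1 : ∀ x ∈ ρ.ker, x = 1 ∨ x = zP := fun x hx =>
      es.nd x hx fun y hy => (es.comm x hx y hy).resolve_right (hno x hx y hy)
    have h2 : (⟨r Q 1, r_mem_PP _⟩ : PP) ∈ ρ.ker := mem_ker_iff.2 ⟨1, by norm_num, false, (mul_one _).symm⟩
    rcases h1 _ h2 with h3 | h3
    · have h4 : r Q 1 * sgn0 false = r Q 0 * sgn0 false := by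
        rw [show r Q 0 = 1 from Bas.r_zero, one_mul]
        have h5 : r Q 1 = (1 : Cfsg.Spor.HN) := congrArg Subtype.val h3
        rw [h5, one_mul]
      exact absurd (r_sgn_inj (by norm_num) (by norm_num) h4).1 (by norm_num)
    · have h4 : r Q 1 * sgn0 false = r Q 0 * sgn0 true := by
        rw [show r Q 0 = 1 from Bas.r_zero, one_mul]
        have h5 : r Q 1 = W0 := congrArg Subtype.val h3
        rw [h5]
        exact mul_one _
      exact absurd (r_sgn_inj (by norm_num) (by norm_num) h4).1 (by norm_num)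
  obtain ⟨x, -, y, -, hxy⟩ := h
  have h2 : zP = (x⁻¹ * y⁻¹) * (x * y) := by
    rw [hxy, ← mul_assoc]
    have : x⁻¹ * y⁻¹ * (y * x) = 1 := by group
    rw [this, one_mul]
  have h3 : IsC zP := ⟨x⁻¹, y⁻¹, by rw [h2]; group⟩
  exact IsC.of_sub PP W0_mem_PP h3

/-- **every element of the derived subgroup of `C(W0)` is a commutator** -/
theorem isC_MM {g : Cfsg.Spor.HN} (hg : g ∈ MM) : IsC g := by
  obtain ⟨hgP, hL⟩ := mem_MM.1 hg
  obtain ⟨y1, y2, hy⟩ := mem_LL.1 hL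
  by_cases h1 : ρ ⟨g, hgP⟩ = 1
  · -- elements of `R`
    by_cases h2 : (⟨g, hgP⟩ : PP) = 1 ∨ (⟨g, hgP⟩ : PP) = zP
    · rcases h2 with h2 | h2
      · have : g = 1 := congrArg Subtype.val h2
        rw [this]
        exact H777.Ore.isC_one
      · have : g = W0 := congrArg Subtype.val h2
        rw [this]
        exact isC_W0
    · obtain ⟨a, ha⟩ := ρ_surj (φA c0)
      have hfx := hfix (a := a) (x := c0) (y := 1) (by rw [ha, map_one, mul_one]) c0_cube c0_ne (one_mul _)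
      exact IsC.of_sub PP hgP (es.isComm_of_mem hfx h1 h2)
  · obtain ⟨a1, b1, ha3, ha1, hab1⟩ := HNA5.three y1
    obtain ⟨a2, b2, ha2, hab2⟩ := HNA5.two y2
    obtain ⟨a, ha⟩ := ρ_surj (φA a1 * φB a2)
    obtain ⟨b, hb⟩ := ρ_surj (φA b1 * φB b2)
    have hfp : FPz ρ.ker zP a b := FPz.of_left es b (hfix ha ha3 ha1 ha2)
    have hc : ρ ⟨g, hgP⟩ = ρ a * ρ b * (ρ a)⁻¹ * (ρ b)⁻¹ := by
      rw [← hy, ← hab1, ← hab2, ha, hb]
      have hab : ∀ s t : A5, φA s * φB t = φB t * φA s := comm_AB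
      simp only [map_mul, map_inv, mul_inv_rev]
      have e1 : ∀ s t : A5, Commute (φA s) (φB t) := comm_AB
      have c1 : Commute (φA a1 * φA b1 * (φA a1)⁻¹ * (φA b1)⁻¹) (φB a2) :=
        (((e1 _ _).mul_left (e1 _ _)).mul_left (e1 _ _).inv_left).mul_left (e1 _ _).inv_left
      calc φA a1 * φA b1 * (φA a1)⁻¹ * (φA b1)⁻¹ * (φB a2 * φB b2 * (φB a2)⁻¹ * (φB b2)⁻¹)
          = φA a1 * φA b1 * (φA a1)⁻¹ * (φA b1)⁻¹ * φB a2 * φB b2 * (φB a2)⁻¹ * (φB b2)⁻¹ := by group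
        _ = φB a2 * (φA a1 * φA b1 * (φA a1)⁻¹ * (φA b1)⁻¹) * φB b2 * (φB a2)⁻¹ * (φB b2)⁻¹ := by rw [c1.eq]
        _ = (φB a2 * φA a1) * φA b1 * (φA a1)⁻¹ * ((φA b1)⁻¹ * φB b2) * (φB a2)⁻¹ * (φB b2)⁻¹ := by group
        _ = (φA a1 * φB a2) * φA b1 * (φA a1)⁻¹ * (φB b2 * (φA b1)⁻¹) * (φB a2)⁻¹ * (φB b2)⁻¹ := by
            rw [← hab a1 a2, ((e1 b1 b2).inv_left).eq]
        _ = (φA a1 * φB a2) * φA b1 * ((φA a1)⁻¹ * φB b2) * ((φA b1)⁻¹ * (φB a2)⁻¹) * (φB b2)⁻¹ := by group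
        _ = (φA a1 * φB a2) * φA b1 * (φB b2 * (φA a1)⁻¹) * ((φB a2)⁻¹ * (φA b1)⁻¹) * (φB b2)⁻¹ := by
            rw [((e1 a1 b2).inv_left).eq, ((e1 b1 a2).inv_left.inv_right).eq]
        _ = (φA a1 * φB a2) * (φA b1 * φB b2) * ((φA a1)⁻¹ * (φB a2)⁻¹) * ((φA b1)⁻¹ * (φB b2)⁻¹) := by group
        _ = (φA a1 * φB a2) * (φA b1 * φB b2) * ((φB a2)⁻¹ * (φA a1)⁻¹) * ((φB b2)⁻¹ * (φA b1)⁻¹) := by
            rw [((e1 a1 a2).inv_left.inv_right).eq, ((e1 b1 b2).inv_left.inv_right).eq]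
    have hact : ∃ x ∈ ρ.ker, ¬ ((⟨g, hgP⟩ : PP) * x * (⟨g, hgP⟩ : PP)⁻¹ = x ∨
        (⟨g, hgP⟩ : PP) * x * (⟨g, hgP⟩ : PP)⁻¹ = x * zP) := by
      by_contra hno
      push Not at hno
      exact h1 (ρ_eq_one hno)
    obtain ⟨a', b', -, -, h⟩ := es.lift ρ hfp hc hact
    exact IsC.of_sub PP hgP ⟨a', b', h⟩

end Cfsg.Agent.H981.Ore.HNMM
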