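import Cfsg.Agent.H981.Ore.HNMM

/-!
# Ore, row HN: centralizers of the elements of `C(W0)` outside the derived subgroup (helper981)

`card_le` : `ρ g ∉ LL` : `|C(W0) ∩ C(g)| ≤ 3840`.
-/

set_option autoImplicit false

namespace Cfsg.Agent.H981.Ore.HNPP

open Cfsg.Agent.HN Cfsg.Agent.HN.Pres Cfsg.Agent.HN.P1408 Cfsg.Agent.HN.H0Basic Cfsg.Agent.HN.XMat
open Cfsg.Agent.HN.XStruct Cfsg.Agent.HN.XWords Cfsg.Agent.HN.XQuot Cfsg.Agent.HN.XInst
open Cfsg.Agent
open Cfsg.Agent.KFacts.HN
open Cfsg.Agent.CpAutHN.LqFacts Cfsg.Agent.CpAutHN.PPFacts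
open Cfsg.Agent.SporadicA.PermTab (band_eq_true allB allB_iff)
open Cfsg.Agent.Lib.AltCarmichael (cyc cyc_mem)

/-- the matrices of the first factor -/
def AL : List ℕ := [
  869204967866376971, 1018100084898052197, 2110954854489269274, 2195402006513706739, 3206195737607452500,
  3275106233126350547, 3605431080059621799, 3676100278761031712, 3863608803359529766, 3936840431962479055,
  4072225076573921706, 4229582447411133124, 4803691457854188073, 4874885063262958510, 5044387939084509761,
  5197225131692333604, 5672893676852087074, 5744090031107821733, 6294575477402346832, 6374535643838039218,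
  7116981224729656950, 8059649111492904186, 8191487332063257097, 8361025538420044774, 8432257618279508577,
  8802655799434955651, 8873323829897007620, 9060691612712042754, 9241421688590303745, 9648529173354173422,
  10110626519017201930, 10259521773487831652, 10456152176204055824, 10604493827124797054, 11070087190244732531,
  11316347745792173595, 11611311749839704025, 11750638504370590903, 12220733234793833658, 12610833386763155388,
  12917451460899244577, 13029857521786568864, 13647319778009068100, 13786654229675256106, 14285809490235334720,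
  14514346671122039202, 14578553704653226827, 14914244858990299939, 15185193610388141758, 15287133742332798392,
  15499968368705251153, 15783703047405405274, 16264895844144348830, 16322373978593606775, 16655136737896852888,
  17052242295765730322, 17432908883214082056, 18114675149474172933, 18226941636817672836, 18432994569598441581]

theorem AL_one : MI ∈ AL := by decide +kernel

theorem AL_mul : ∀ P ∈ AL, ∀ i < 3, mul P (mw (aw i)) ∈ AL := by decide +kernel

/-- number of fixed masks -/
def cntF (P : ℕ) : ℕ := ((List.range 256).filter fun m => Nat.beq (app P m) m).length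

theorem AL_cnt : AL.all (fun P => Nat.ble (cntF (mul P MC)) 16) = true := by decide +kernel

theorem mul_MI {P : ℕ} (hP : P < 2 ^ 64) : mul P MI = P := by
  apply pack_ext (mul_lt _ _) hP
  intro i hi
  rw [row_mul _ _ hi, app_MI (row_lt _ _)]

theorem MI_mul {P : ℕ} (hP : P < 2 ^ 64) : mul MI P = P := by
  apply pack_ext (mul_lt _ _) hP
  intro i hi
  rw [row_mul _ _ hi, row_MI hi, app_pow _ hi]

/-- the matrices of the elements of the first factor -/
def GA (a : A5) : Prop := ∃ w, φA a = e w ∧ mw w ∈ AL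

theorem GA_one : GA 1 := ⟨[], by rw [map_one]; rfl, AL_one⟩

theorem GA_step {a : A5} (h : GA a) {i : ℕ} (hi : i < 3) : GA (a * ⟨cyc 3 i, cyc_mem 3 i hi⟩) := by
  obtain ⟨w, h1, h2⟩ := h
  obtain ⟨v, hv⟩ := exists_word (φA (a * ⟨cyc 3 i, cyc_mem 3 i hi⟩))
  refine ⟨w ++ aw i, by rw [map_mul, h1, φA_cyc hi, e_append], ?_⟩
  have h3 : mw (w ++ aw i) = mul (mw w) (mw (aw i)) := by
    apply pack_ext (mw_lt _) (mul_lt _ _)
    intro j hj
    rw [← app_pow _ hj, ← app_pow _ hj, app_mul]
    have h4 : ∀ (w : List ℕ) (m : ℕ), m < 256 → app (mw (w ++ aw i)) m = app (mw (aw i)) (app (mw w) m) := by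
      intro w
      induction w with
      | nil =>
        intro m hm
        rw [List.nil_append, mw_nil, app_MI hm]
      | cons g w ih =>
        intro m hm
        rw [List.cons_append, mw_cons, mw_cons, app_mul, app_mul, ih _ (app_lt _ _)]
    exact h4 w _ (by
      calc 2 ^ j < 2 ^ 8 := Nat.pow_lt_pow_right (by norm_num) hj
        _ = 256 := by norm_num)
  rw [h3]
  exact AL_mul _ h2 i hi

theorem cyc_cube {i : ℕ} (hi : i < 3) (a : A5) :
    a * ⟨cyc 3 i, cyc_mem 3 i hi⟩ * ⟨cyc 3 i, cyc_mem 3 i hi⟩ * ⟨cyc 3 i, cyc_mem 3 i hi⟩ = a := by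
  have h : (⟨cyc 3 i, cyc_mem 3 i hi⟩ : A5) ^ 3 = 1 := by
    apply φA_inj
    rw [map_pow, φA_cyc hi, map_one]
    exact rel_a.cube i hi
  rw [mul_assoc, mul_assoc, ← pow_three, h, mul_one]

theorem GA_all (a : A5) : GA a := by
  have h : ∀ t : A5, ∀ a, GA a ↔ GA (a * t) := by
    let T : Subgroup A5 :=
      { carrier := {t | ∀ a, GA a ↔ GA (a * t)}
        one_mem' := fun a => by rw [mul_one]
        mul_mem' := fun {s t} hs ht a => by rw [← mul_assoc]; exact (hs a).trans (ht _)
        inv_mem' := fun {t} ht a => by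
          have := ht (a * t⁻¹)
          rw [inv_mul_cancel_right] at this
          exact this.symm }
    have hT : T = ⊤ := top_of_gens fun i hi => by
      intro a
      refine ⟨fun h => GA_step h hi, fun h => ?_⟩
      have := GA_step (GA_step h hi) hi
      rwa [cyc_cube hi] at this
    intro t
    exact (hT ▸ Subgroup.mem_top t : t ∈ T)
  have := (h a 1).1 GA_one
  rwa [one_mul] at this

/-- an element outside `LL` is conjugate to `φA a * e [1]` -/
theorem exists_conj {y : Lq} (hy : y ∉ LL) : ∃ (g : Lq) (a : A5), g * y * g⁻¹ = φA a * e [1] := by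
  rcases LL_or y with h | ⟨z, hz, rfl⟩
  · exact absurd h hy
  obtain ⟨a, b, rfl⟩ := mem_LL.1 hz
  refine ⟨φB b⁻¹, a * b, ?_⟩
  have h1 : φB b⁻¹ * (φA a * φB b * e [1]) * (φB b⁻¹)⁻¹ =
      φB b⁻¹ * φA a * φB b * (e [1] * φB b * (e [1])⁻¹) * e [1] := by
    rw [map_inv]; group
  rw [h1, e1_A, ← comm_AB a b⁻¹]
  calc φA a * φB b⁻¹ * φB b * φA b * e [1] = φA a * (φB b⁻¹ * φB b) * φA b * e [1] := by group
    _ = φA (a * b) * e [1] := by rw [← map_mul, inv_mul_cancel, map_one, mul_one, ← map_mul]

/-- the number of fixed masks -/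
theorem exists_list {x : PP} {a : A5} (hx : ρ x = φA a * e [1]) : ∃ L : List ℕ, L.length ≤ 16 ∧
    ∀ (v : PP) (m : ℕ) (_ : m < 256) (c : Bool), (v : Cfsg.Spor.HN) = r Q m * sgn0 c → v * x = x * v → m ∈ L := by
  obtain ⟨w, hw, hA⟩ := GA_all a
  have hρ : ρ x = e (w ++ [1]) := by rw [hx, hw, e_append]
  have h1 : mw (w ++ [1]) = mul (mw w) MC := by
    apply pack_ext (mw_lt _) (mul_lt _ _)
    intro j hj
    rw [← app_pow _ hj, ← app_pow _ hj, app_mul]
    have h4 : ∀ (w : List ℕ) (m : ℕ), m < 256 → app (mw (w ++ [1])) m = app MC (app (mw w) m) := by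
      intro w
      induction w with
      | nil =>
        intro m hm
        rw [List.nil_append, mw_cons, mw_nil, app_MI hm, app_mul, app_MI (app_lt _ _)]
        rfl
      | cons g w ih =>
        intro m hm
        rw [List.cons_append, mw_cons, mw_cons, app_mul, app_mul, ih _ (app_lt _ _)]
    exact h4 w _ (by
      calc 2 ^ j < 2 ^ 8 := Nat.pow_lt_pow_right (by norm_num) hj
        _ = 256 := by norm_num)
  refine ⟨(List.range 256).filter fun m => Nat.beq (app (mul (mw w) MC) m) m, ?_, ?_⟩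
  · exact Nat.le_of_ble_eq_true (List.all_eq_true.1 AL_cnt _ hA)
  · intro v m hm c hv hc
    have h2 := app_eq_of_comm hρ hm hv hc
    rw [h1] at h2
    exact List.mem_filter.2 ⟨List.mem_range.2 hm, by
      show Nat.beq _ _ = true
      rw [h2, Nat.beq_refl]⟩

theorem card_ker_le' {x : PP} {a : A5} (hx : ρ x = φA a * e [1]) : Nat.card ↥(CP x ⊓ ρ.ker) ≤ 32 := by
  classical
  obtain ⟨L, hL, hm⟩ := exists_list hx
  have h0 : ∀ v : ↥(CP x ⊓ ρ.ker), ∃ y : Fin L.length × Bool, ((v : PP) : Cfsg.Spor.HN) =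
      r Q (L.get y.1) * sgn0 y.2 := by
    rintro ⟨v, hv1, hv2⟩
    obtain ⟨m, hm', c, hvm⟩ := mem_ker_iff.1 hv2
    have h1 : v * x = x * v := Subgroup.mem_centralizer_singleton_iff.1 hv1
    obtain ⟨i, hi⟩ := List.get_of_mem (hm v m hm' c hvm h1)
    refine ⟨(i, c), ?_⟩
    change (v : Cfsg.Spor.HN) = _
    rw [hvm, hi]
  choose f hf using h0
  have hinj : Function.Injective f := by
    intro u v huv
    apply Subtype.ext
    apply Subtype.ext
    rw [hf u, hf v, huv]
  have h2 := Nat.card_le_card_of_injective f hinj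
  rw [Nat.card_prod, Nat.card_eq_fintype_card (α := Fin _), Nat.card_eq_fintype_card (α := Bool), Fintype.card_fin,
    Fintype.card_bool] at h2
  omega

instance : Finite Lq := Nat.finite_of_card_ne_zero (by rw [card_Lq]; norm_num)

/-- the centralizers in `Lq` -/
theorem card_J_le {J : Subgroup Lq} {y : Lq} (hy : y ∉ LL) (hJ : ∀ z ∈ J, z * y = y * z) : Nat.card ↥J ≤ 120 := by
  classical
  rcases LL_or y with h | ⟨t, ht, hyt⟩
  · exact absurd h hy
  obtain ⟨s, s', rfl⟩ := mem_LL.1 ht
  have key : ∀ b : A5, φB b * y = y * φB b → b = 1 := by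
    intro b hb
    have h1 : y * φB b * y⁻¹ = φA (s * b * s⁻¹) := by
      rw [hyt, ← conj_A s s' b, ← e1_A b]
      group
    have h2 : y * φB b * y⁻¹ = φB b := by rw [← hb]; group
    rw [h2] at h1
    exact (A_inter_B h1.symm).2
  have h0 : ∀ z : ↥(J ⊓ LL), ∃ a b : A5, φA a * φB b = (z : Lq) := fun z => mem_LL.1 z.2.2
  choose f g hfg using h0
  have hinj : Function.Injective f := by
    intro u v huv
    apply Subtype.ext
    have h1 : (u : Lq)⁻¹ * v = φB ((g u)⁻¹ * g v) := by
      rw [← hfg u, ← hfg v, huv, map_mul, map_inv]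
      group
    have h2 : (u : Lq)⁻¹ * v ∈ J := J.mul_mem (J.inv_mem u.2.1) v.2.1
    have h3 := hJ _ h2
    rw [h1] at h3
    have h4 := key _ h3
    rw [h4, map_one] at h1
    exact inv_mul_eq_one.1 h1
  have h1 : Nat.card ↥(J ⊓ LL) ≤ 60 := by
    rw [← card_A5]
    exact Nat.card_le_card_of_injective f hinj
  have h2 : LL.relIndex J ∣ 2 := by
    rw [← index_LL]
    exact Subgroup.relIndex_dvd_index_of_normal LL J
  have h3 : Nat.card ↥(J ⊓ LL) * LL.relIndex J = Nat.card ↥J := by
    rw [← Subgroup.relIndex_bot_left, ← Subgroup.relIndex_bot_left, inf_comm, ← Subgroup.inf_relIndex_right LL J]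
    exact Subgroup.relIndex_mul_relIndex _ _ _ bot_le inf_le_right
  have h4 := Nat.le_of_dvd (by norm_num) h2
  rw [← h3]
  calc Nat.card ↥(J ⊓ LL) * LL.relIndex J ≤ 60 * 2 := Nat.mul_le_mul h1 h4
    _ = 120 := by norm_num

theorem card_le' {x : PP} {a : A5} (hx : ρ x = φA a * e [1]) : Nat.card ↥(CP x) ≤ 3840 := by
  let f : ↥(CP x) →* Lq := ρ.comp (CP x).subtype
  have hnot : φA a * e [1] ∉ LL := fun h => e1_notMem (by
    have := LL.mul_mem (LL.inv_mem (A_mem a)) h
    rwa [inv_mul_cancel_left] at this)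
  have h1 : Nat.card ↥f.ker ≤ 32 := by
    have h2 : Nat.card ↥f.ker = Nat.card ↥(CP x ⊓ ρ.ker) := by
      refine Nat.card_congr
        { toFun := fun v => ⟨(v : ↥(CP x)), (v : ↥(CP x)).2, v.2⟩
          invFun := fun v => ⟨⟨(v : PP), v.2.1⟩, v.2.2⟩
          left_inv := fun _ => rfl
          right_inv := fun _ => rfl }
    rw [h2]
    exact card_ker_le' hx
  have h2 : Nat.card ↥f.range ≤ 120 := by
    apply card_J_le hnot
    rintro _ ⟨v, rfl⟩
    have h3 : (v : PP) * x = x * v := Subgroup.mem_centralizer_singleton_iff.1 v.2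
    change ρ (v : PP) * _ = _ * ρ (v : PP)
    rw [← hx, ← map_mul, h3, map_mul]
  have h3 : Nat.card ↥(CP x) = Nat.card ↥f.ker * Nat.card ↥f.range := by
    rw [← f.ker.card_mul_index, Subgroup.index_ker]
  rw [h3]
  calc Nat.card ↥f.ker * Nat.card ↥f.range ≤ 32 * 120 := Nat.mul_le_mul h1 h2
    _ = 3840 := by norm_num

/-- the order of the centralizer is invariant under conjugation -/
theorem card_cent_conj {G : Type*} [Group G] (g x : G) : Nat.card (Subgroup.centralizer ({g * x * g⁻¹} : Set G)) =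
    Nat.card (Subgroup.centralizer ({x} : Set G)) := by
  refine Nat.card_congr
    { toFun := fun v => ⟨g⁻¹ * v * g, ?_⟩
      invFun := fun v => ⟨g * v * g⁻¹, ?_⟩
      left_inv := fun v => Subtype.ext (by group)
      right_inv := fun v => Subtype.ext (by group) }
  · rw [Subgroup.mem_centralizer_singleton_iff]
    have h : (v : G) * (g * x * g⁻¹) = g * x * g⁻¹ * v := Subgroup.mem_centralizer_singleton_iff.1 v.2
    calc g⁻¹ * (v : G) * g * x = g⁻¹ * (v * (g * x * g⁻¹)) * g := by group
      _ = x * (g⁻¹ * v * g) := by rw [h]; group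
  · rw [Subgroup.mem_centralizer_singleton_iff]
    have h : (v : G) * x = x * v := Subgroup.mem_centralizer_singleton_iff.1 v.2
    calc g * (v : G) * g⁻¹ * (g * x * g⁻¹) = g * (v * x) * g⁻¹ := by group
      _ = g * x * g⁻¹ * (g * v * g⁻¹) := by rw [h]; group

/-- **centralizers outside the derived subgroup** -/
theorem card_le {x : PP} (hx : ρ x ∉ LL) : Nat.card (Subgroup.centralizer ({x} : Set PP)) ≤ 3840 := by
  obtain ⟨g, a, h⟩ := exists_conj hx
  obtain ⟨u, rfl⟩ := ρ_surj g
  rw [← card_cent_conj u x]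
  exact card_le' (a := a) (by rw [map_mul, map_mul, map_inv, h])

/-- **an element with `W0` among its powers, outside `MM`** -/
theorem card_le_of_pow {g : Cfsg.Spor.HN} {n : ℕ} (hn : g ^ n = W0) (hg : g ∉ MM) :
    Nat.card (Subgroup.centralizer ({g} : Set Cfsg.Spor.HN)) ≤ 3840 := by
  have hgP : g ∈ PP := mem_PP.2 (by rw [← hn]; exact (Commute.refl g).pow_right n)
  have hρ : ρ ⟨g, hgP⟩ ∉ LL := fun h => hg (mem_MM.2 ⟨hgP, h⟩)
  refine le_trans (le_of_eq ?_) (card_le hρ)
  have hle : Subgroup.centralizer ({g} : Set Cfsg.Spor.HN) ≤ PP := by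
    intro v hv
    rw [Subgroup.mem_centralizer_singleton_iff] at hv
    rw [mem_PP, ← hn]
    exact ((show Commute v g from hv).pow_right n).eq
  refine Nat.card_congr
    { toFun := fun v => ⟨⟨v, hle v.2⟩, ?_⟩
      invFun := fun v => ⟨(v : PP), ?_⟩
      left_inv := fun _ => rfl
      right_inv := fun _ => rfl }
  · rw [Subgroup.mem_centralizer_singleton_iff]
    exact Subtype.ext (Subgroup.mem_centralizer_singleton_iff.1 v.2)
  · rw [Subgroup.mem_centralizer_singleton_iff]
    exact congrArg Subtype.val (Subgroup.mem_centralizer_singleton_iff.1 v.2)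

end Cfsg.Agent.H981.Ore.HNPP
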